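import Cfsg.Agent.Lib.Fitting.Minimal
import Cfsg.Agent.Lib.Frobenius.Involution
import Cfsg.Agent.Lib.OddOrderGlue.Basic
import Mathlib.GroupTheory.SpecificGroups.Cyclic

/-!
# Odd-order groups, with abelian Sylow subgroups, transitive on the nonidentity elements

If `Γ` has odd order, abelian Sylow subgroups, and acts faithfully by conjugation on an abelian
subgroup `V`, transitively on its nonidentity elements, then a point stabiliser is smaller than
the number of nonidentity elements of `V`.
-/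

set_option autoImplicit false
set_option linter.style.haveILetI false

open Subgroup

universe u

namespace Cfsg.Agent.H40.FactorTwo

variable {G : Type u} [Group G] [Finite G]

/-- The Fitting subgroup of a group with abelian Sylow subgroups is abelian. -/
theorem fitting_comm (hA : ∀ (p : ℕ) [Fact p.Prime] (P : Sylow p G),
      IsMulCommutative (P : Subgroup G)) :
    Cfsg.fittingSubgroup G ≤ centralizer (Cfsg.fittingSubgroup G : Set G) := by
  have key : ∀ p q : Nat.Primes,
      Cfsg.pCore (p : ℕ) G ≤ centralizer (Cfsg.pCore (q : ℕ) G : Set G) := by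
    intro p q x hx y hy
    haveI : Fact (p : ℕ).Prime := ⟨p.2⟩
    haveI : Fact (q : ℕ).Prime := ⟨q.2⟩
    by_cases hpq : (p : ℕ) = (q : ℕ)
    · obtain rfl : p = q := Subtype.ext hpq
      obtain ⟨P⟩ : Nonempty (Sylow (p : ℕ) G) := inferInstance
      haveI := hA (p : ℕ) P
      exact setLike_mul_comm (Fitting.pCore_le_sylow P hy) (Fitting.pCore_le_sylow P hx)
    · exact ((Fitting.pCore_commute hpq hx hy).eq).symm
  rw [Fitting.fitting_eq_iSup_pCore]
  refine iSup_le fun p => ?_
  rw [le_centralizer_iff]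
  exact iSup_le fun q => key q p

/-- Core of the bound: the stabiliser in `Γ` of a nonidentity element of `V`. -/
theorem stabilizer_lt (hFT : OddOrderGlue.FeitThompson.{u}) (Γ V : Subgroup G) [IsMulCommutative V]
    (hΓV : Γ ≤ normalizer (V : Set G))
    (hfaith : ∀ g ∈ Γ, (∀ v ∈ V, g * v = v * g) → g = 1)
    (htr : ∀ v ∈ V, v ≠ 1 → ∀ w ∈ V, w ≠ 1 → ∃ g ∈ Γ, g * v * g⁻¹ = w)
    (hodd : Odd (Nat.card Γ))
    (hA : ∀ (p : ℕ) [Fact p.Prime] (P : Sylow p ↥Γ), IsMulCommutative (P : Subgroup ↥Γ))
    (hV : 2 < Nat.card V) {v : G} (hv : v ∈ V) (hv1 : v ≠ 1) :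
    Nat.card ↥(Γ ⊓ centralizer {v}) + 1 < Nat.card V := by
  classical
  haveI : Group.IsSolvable ↥Γ := hFT ↥Γ hodd
  set F0 := Cfsg.fittingSubgroup ↥Γ with hF0
  haveI hF0n : F0.Normal := Fitting.fitting_normal
  have hFab := fitting_comm hA
  have hCF := Fitting.centralizer_fitting_le (G := ↥Γ)
  set F : Subgroup G := F0.map Γ.subtype with hF
  have hFΓ : F ≤ Γ := map_subtype_le F0
  have hFcomm : ∀ a ∈ F, ∀ b ∈ F, a * b = b * a := by
    rintro _ ⟨a, ha, rfl⟩ _ ⟨b, hb, rfl⟩
    exact congrArg Subtype.val (hFab hb a ha)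
  haveI : IsMulCommutative F := ⟨⟨fun a b => Subtype.ext (hFcomm _ a.2 _ b.2)⟩⟩
  have hFnorm : ∀ g ∈ Γ, ∀ f ∈ F, g * f * g⁻¹ ∈ F := by
    rintro g hg _ ⟨f, hf, rfl⟩
    exact ⟨_, hF0n.conj_mem f hf ⟨g, hg⟩, rfl⟩
  have hFV : F ≤ normalizer (V : Set G) := hFΓ.trans hΓV
  have conjV : ∀ g ∈ Γ, ∀ x ∈ V, g * x * g⁻¹ ∈ V := fun g hg x hx =>
    ((mem_normalizer_iff.1 (hΓV hg)) x).1 hx
  -- fixed subgroups
  set St : G → Subgroup G := fun x => F ⊓ centralizer {x} with hSt
  have hmem : ∀ {x f : G}, f ∈ St x ↔ f ∈ F ∧ f * x = x * f := by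
    intro x f
    simp [hSt, mem_centralizer_singleton_iff]
  -- equal cards
  have hcard : ∀ x ∈ V, x ≠ 1 → ∀ y ∈ V, y ≠ 1 → Nat.card ↥(St x) = Nat.card ↥(St y) := by
    intro x hx hx1 y hy hy1
    obtain ⟨g, hg, rfl⟩ := htr x hx hx1 y hy hy1
    have key : ∀ (g x f : G), g ∈ Γ → f ∈ St x → g * f * g⁻¹ ∈ St (g * x * g⁻¹) := by
      intro g x f hg hf
      rw [hmem] at hf ⊢
      refine ⟨hFnorm g hg f hf.1, ?_⟩
      calc g * f * g⁻¹ * (g * x * g⁻¹) = g * (f * x) * g⁻¹ := by group
        _ = g * (x * f) * g⁻¹ := by rw [hf.2]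
        _ = _ := by group
    refine le_antisymm
      (Nat.card_le_card_of_injective
        (fun f : ↥(St x) => (⟨g * f * g⁻¹, key g x f hg f.2⟩ : ↥(St (g * x * g⁻¹))))
        (fun a b hab => by
          have h := congrArg Subtype.val hab
          simpa using h))
      (Nat.card_le_card_of_injective
        (fun f : ↥(St (g * x * g⁻¹)) => (⟨g⁻¹ * f * g, by
          have h := key g⁻¹ _ f (inv_mem hg) f.2
          simpa [mul_assoc] using h⟩ : ↥(St x)))
        (fun a b hab => by
          have h := congrArg Subtype.val hab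
          simpa using h))
  have heq : ∀ x ∈ V, x ≠ 1 → ∀ y ∈ V, y ≠ 1 → St x ≤ St y → St x = St y := fun x hx hx1 y hy hy1 h =>
    eq_of_le_of_card_ge h (hcard x hx hx1 y hy hy1).ge
  -- semiregularity
  have hsemi : ∀ x ∈ V, x ≠ 1 → ∀ f ∈ F, f * x = x * f → f = 1 := by
    intro x hx hx1 f hf hfx
    have hsame : ∀ y ∈ V, y ≠ 1 → St x = St y := by
      intro y hy hy1
      by_contra hne
      set z := x * y with hz
      have hz1 : z ≠ 1 := by
        intro h
        apply hne
        have hyx : y = x⁻¹ := (inv_eq_of_mul_eq_one_right h).symm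
        refine heq x hx hx1 y hy hy1 ?_
        intro k hk
        rw [hmem] at hk ⊢
        refine ⟨hk.1, ?_⟩
        rw [hyx]
        exact (Commute.inv_right hk.2)
      have hzV : z ∈ V := mul_mem hx hy
      -- every element fixing z fixes x
      have hsub : St z ≤ St x := by
        intro k hk
        rw [hmem] at hk ⊢
        refine ⟨hk.1, ?_⟩
        by_contra hkx
        have hkV := conjV k (hFΓ hk.1)
        set c := x⁻¹ * (k * x * k⁻¹) with hc
        have hc1 : c ≠ 1 := by
          intro h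
          apply hkx
          have : k * x * k⁻¹ = x := by
            rw [hc, inv_mul_eq_one] at h
            exact h.symm
          exact mul_inv_eq_iff_eq_mul.1 this
        have hcV : c ∈ V := mul_mem (inv_mem hx) (hkV x hx)
        have hcy : c = y * (k * y⁻¹ * k⁻¹) := by
          have h1 : k * x * k⁻¹ * (k * y * k⁻¹) = x * y := by
            have : k * (x * y) * k⁻¹ = x * y := mul_inv_eq_iff_eq_mul.2 hk.2
            rw [← this]
            group
          rw [hc]
          calc x⁻¹ * (k * x * k⁻¹)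
              = x⁻¹ * ((k * x * k⁻¹ * (k * y * k⁻¹)) * (k * y⁻¹ * k⁻¹)) := by group
            _ = y * (k * y⁻¹ * k⁻¹) := by rw [h1]; group
        have fixconj : ∀ w ∈ V, ∀ m ∈ St w, m * (k * w * k⁻¹) = k * w * k⁻¹ * m := by
          intro w hw m hm
          rw [hmem] at hm
          have hmk := hFcomm m hm.1 k hk.1
          calc m * (k * w * k⁻¹) = (m * k) * w * k⁻¹ := by group
            _ = k * (m * w) * k⁻¹ := by rw [hmk]; group
            _ = k * w * (m * k⁻¹) := by rw [hm.2]; group
            _ = k * w * k⁻¹ * m := by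
                rw [hFcomm m hm.1 k⁻¹ (inv_mem hk.1)]; group
        have hxc : St x ≤ St c := by
          intro m hm
          have h2 := hmem.1 hm
          rw [hmem]
          exact ⟨h2.1, (Commute.inv_right (h2.2 : Commute m x)).mul_right
            (fixconj x hx m hm : Commute m (k * x * k⁻¹))⟩
        have hyc : St y ≤ St c := by
          intro m hm
          have h2 := hmem.1 hm
          have hm' : m ∈ St y⁻¹ := hmem.2 ⟨h2.1, Commute.inv_right (h2.2 : Commute m y)⟩
          rw [hmem, hcy]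
          exact ⟨h2.1, (show Commute m y from h2.2).mul_right
            (fixconj y⁻¹ (inv_mem hy) m hm' : Commute m (k * y⁻¹ * k⁻¹))⟩
        exact hne ((heq x hx hx1 c hcV hc1 hxc).trans (heq y hy hy1 c hcV hc1 hyc).symm)
      have h1 := heq z hzV hz1 x hx hx1 hsub
      have h2 : St z ≤ St y := by
        intro k hk
        have hkx := hmem.1 (hsub hk)
        have hkz := hmem.1 hk
        rw [hmem]
        refine ⟨hkz.1, ?_⟩
        have : Commute k (x⁻¹ * (x * y)) :=
          (Commute.inv_right (hkx.2 : Commute k x)).mul_right hkz.2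
        have h5 : Commute k y := by simpa using this
        exact h5.eq
      exact hne (h1.symm.trans (heq z hzV hz1 y hy hy1 h2))
    refine hfaith f (hFΓ hf) fun y hy => ?_
    by_cases hy1 : y = 1
    · simp [hy1]
    · have : f ∈ St y := hsame y hy hy1 ▸ hmem.2 ⟨hf, hfx⟩
      exact (hmem.1 this).2
  have hVne : V ≠ ⊥ := by
    intro h
    rw [h, card_bot] at hV
    omega
  have hfpf : Frobenius.IsFPF F V := ⟨hFV, fun a ha ha1 => by
    rw [eq_bot_iff_forall]
    rintro x ⟨hx, hxa⟩
    by_contra hx1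
    exact ha1 (hsemi x hx hx1 a ha (mem_centralizer_singleton_iff.1 hxa).symm)⟩
  haveI : IsCyclic F := hfpf.isCyclic_of_isMulCommutative hVne
  -- the stabiliser embeds in the automorphisms of `F`
  let φ : ↥(Γ ⊓ centralizer {v}) → MulAut ↥F := fun g =>
    { toFun := fun f => ⟨g * f * (g : G)⁻¹, hFnorm g g.2.1 f f.2⟩
      invFun := fun f => ⟨(g : G)⁻¹ * f * g, by
        simpa using hFnorm (g : G)⁻¹ (inv_mem g.2.1) f f.2⟩
      left_inv := fun f => Subtype.ext (by simp only; group)
      right_inv := fun f => Subtype.ext (by simp only; group)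
      map_mul' := fun a b => Subtype.ext (by simp only [Subgroup.coe_mul]; group) }
  have hφ : Function.Injective φ := by
    intro a b hab
    have h : ∀ f ∈ F, ((b : G)⁻¹ * a) * f = f * ((b : G)⁻¹ * a) := by
      intro f hf
      have h1 : (a : G) * f * (a : G)⁻¹ = (b : G) * f * (b : G)⁻¹ :=
        congrArg Subtype.val (DFunLike.congr_fun hab (⟨f, hf⟩ : ↥F))
      calc ((b : G)⁻¹ * a) * f = (b : G)⁻¹ * ((a : G) * f * (a : G)⁻¹) * a := by group
        _ = (b : G)⁻¹ * ((b : G) * f * (b : G)⁻¹) * a := by rw [h1]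
        _ = f * ((b : G)⁻¹ * a) := by group
    have hc := mul_mem (inv_mem b.2) a.2
    have hcF : (b : G)⁻¹ * a ∈ F := by
      have h2 : (⟨(b : G)⁻¹ * a, hc.1⟩ : ↥Γ) ∈ F0 := hCF fun f hf =>
        Subtype.ext (h f ⟨f, hf, rfl⟩).symm
      exact ⟨_, h2, rfl⟩
    have h1 := hsemi v hv hv1 _ hcF (mem_centralizer_singleton_iff.1 hc.2)
    exact Subtype.ext (inv_mul_eq_one.1 h1).symm
  have hle : Nat.card ↥(Γ ⊓ centralizer {v}) ≤ Nat.totient (Nat.card F) := by
    have := Nat.card_le_card_of_injective φ hφ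
    rwa [IsCyclic.card_mulAut] at this
  -- `|F| ≤ |V| - 1`
  have hFle : Nat.card F + 1 ≤ Nat.card V := by
    have hinj : Function.Injective
        (fun o : Option ↥F => o.elim (⟨1, one_mem V⟩ : ↥V)
          fun f => ⟨f * v * (f : G)⁻¹, conjV f (hFΓ f.2) v hv⟩) := by
      intro a b hab
      have h := congrArg Subtype.val hab
      rcases a with _ | a <;> rcases b with _ | b
      · rfl
      · exact absurd (conj_eq_one_iff.1 h.symm) hv1
      · exact absurd (conj_eq_one_iff.1 h) hv1
      · have h1 : (a : G) * v * (a : G)⁻¹ = (b : G) * v * (b : G)⁻¹ := h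
        have h2 : ((b : G)⁻¹ * a) * v = v * ((b : G)⁻¹ * a) := by
          calc ((b : G)⁻¹ * a) * v = (b : G)⁻¹ * ((a : G) * v * (a : G)⁻¹) * a := by group
            _ = v * ((b : G)⁻¹ * a) := by rw [h1]; group
        have h3 := hsemi v hv hv1 _ (mul_mem (inv_mem b.2) a.2) h2
        exact congrArg some (Subtype.ext (inv_mul_eq_one.1 h3).symm)
    have := Nat.card_le_card_of_injective _ hinj
    rwa [Finite.card_option] at this
  by_cases hF1 : Nat.card F = 1
  · rw [hF1, Nat.totient_one] at hle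
    omega
  · have : 1 < Nat.card F := lt_of_le_of_ne Nat.card_pos (Ne.symm hF1)
    have := Nat.totient_lt _ this
    omega

end Cfsg.Agent.H40.FactorTwo
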