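import Cfsg.Agent.H40.FactorTwo.Linear
import Cfsg.Agent.Lib.Involution.Dihedral
import Mathlib.GroupTheory.Transfer
import Mathlib.GroupTheory.Sylow
import Mathlib.Combinatorics.Pigeonhole

/-!
# An odd subgroup of `2`-power index in a group with abelian Sylow subgroups

A finite group all of whose Sylow subgroups are abelian and which has a subgroup of odd order
and of `2`-power index is solvable (given the odd order theorem).  In a minimal counterexample
`S` acts regularly on the cosets of the odd subgroup `C`, so the normaliser `N` of `S` contains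
every centraliser of an involution of `S`; an involution `u` outside `N` whose coset `N * u`
contains at least `#Ω₁(S) - 1` involutions then yields an odd subgroup `N ∩ uNu` of at least that
order fixing two points, and this is too large for a point stabiliser in a group of odd order
transitive on the involutions of `S`.
-/

set_option autoImplicit false
set_option linter.style.haveILetI false

open Subgroup

universe u

namespace Cfsg.Agent.H40.FactorTwo

/-- An automorphism of odd period of an abelian `2`-group fixing all involutions is trivial. -/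
theorem commute_of_fixes_involutions {G : Type u} [Group G] [Finite G] {S : Subgroup G}
    [IsMulCommutative S] {c : G} (hc : Odd (orderOf c)) (hnorm : ∀ x ∈ S, c * x * c⁻¹ ∈ S)
    (hfix : ∀ x ∈ S, x ^ 2 = 1 → c * x = x * c) :
    ∀ (j : ℕ) (x : G), x ∈ S → x ^ 2 ^ j = 1 → c * x = x * c := by
  intro j
  induction j with
  | zero =>
    intro x _ hx
    rw [pow_zero, pow_one] at hx
    simp [hx]
  | succ j ih =>
    intro x hx hxj
    rw [pow_succ', pow_mul] at hxj
    have h2 : c * x ^ 2 = x ^ 2 * c := ih _ (pow_mem hx 2) hxj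
    set v := x⁻¹ * (c * x * c⁻¹) with hv
    have hvS : v ∈ S := mul_mem (inv_mem hx) (hnorm x hx)
    have hcx : c * x * c⁻¹ = x * v := by rw [hv]; group
    have hcomm : x * v = v * x := setLike_mul_comm hx hvS
    have hv2 : v ^ 2 = 1 := by
      have h3 : (x * v) ^ 2 = x ^ 2 := by
        rw [← hcx, conj_pow, h2]
        group
      rw [(show Commute x v from hcomm).mul_pow] at h3
      exact mul_eq_left.1 h3
    have hcv : c * v = v * c := hfix v hvS hv2
    have hk : ∀ k : ℕ, c ^ k * x * (c ^ k)⁻¹ = x * v ^ k := by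
      intro k
      induction k with
      | zero => simp
      | succ k ihk =>
        have hcv' : c * v ^ k * c⁻¹ = v ^ k := by
          rw [((show Commute c v from hcv).pow_right k).eq]
          group
        calc c ^ (k + 1) * x * (c ^ (k + 1))⁻¹
            = c * (c ^ k * x * (c ^ k)⁻¹) * c⁻¹ := by rw [pow_succ']; group
          _ = (c * x * c⁻¹) * (c * v ^ k * c⁻¹) := by rw [ihk]; group
          _ = x * v ^ (k + 1) := by rw [hcx, hcv', pow_succ', mul_assoc]
    have h1 := hk (orderOf c)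
    rw [pow_orderOf_eq_one] at h1
    obtain ⟨m, hm⟩ := hc
    rw [hm, pow_succ, pow_mul, hv2, one_pow, one_mul, one_mul, inv_one, mul_one] at h1
    have hv1 : v = 1 := mul_eq_left.1 h1.symm
    rw [hv1, mul_one] at hcx
    exact mul_inv_eq_iff_eq_mul.1 hcx

theorem sylow_abelian_subgroup {G : Type u} [Group G] [Finite G]
    (hA : ∀ (p : ℕ) [Fact p.Prime] (P : Sylow p G), IsMulCommutative (P : Subgroup G))
    (H : Subgroup G) : ∀ (p : ℕ) [Fact p.Prime] (P : Sylow p ↥H),
      IsMulCommutative (P : Subgroup ↥H) := by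
  intro p _ P
  obtain ⟨Q, hQ⟩ := P.exists_comap_subtype_eq
  haveI := hA p Q
  refine ⟨⟨fun a b => Subtype.ext (Subtype.ext ?_)⟩⟩
  have ha : ((a : ↥H) : G) ∈ (Q : Subgroup G) := by
    have h := a.2
    simp only [← hQ] at h
    exact h
  have hb : ((b : ↥H) : G) ∈ (Q : Subgroup G) := by
    have h := b.2
    simp only [← hQ] at h
    exact h
  exact setLike_mul_comm ha hb

theorem sylow_abelian_quotient {G : Type u} [Group G] [Finite G]
    (hA : ∀ (p : ℕ) [Fact p.Prime] (P : Sylow p G), IsMulCommutative (P : Subgroup G))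
    (N : Subgroup G) [N.Normal] : ∀ (p : ℕ) [Fact p.Prime] (P : Sylow p (G ⧸ N)),
      IsMulCommutative (P : Subgroup (G ⧸ N)) := by
  intro p _ P
  obtain ⟨Q, rfl⟩ := Sylow.mapSurjective_surjective (QuotientGroup.mk'_surjective N) p P
  haveI := hA p Q
  refine ⟨⟨fun a b => Subtype.ext ?_⟩⟩
  obtain ⟨x, hx, hxa⟩ := (a.2 : (a : G ⧸ N) ∈ (Q : Subgroup G).map (QuotientGroup.mk' N))
  obtain ⟨y, hy, hyb⟩ := (b.2 : (b : G ⧸ N) ∈ (Q : Subgroup G).map (QuotientGroup.mk' N))
  show (a : G ⧸ N) * b = b * a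
  rw [← hxa, ← hyb, ← map_mul, ← map_mul, setLike_mul_comm hx hy]

theorem card_mul_relIndex_of_le {G : Type u} [Group G] {H K : Subgroup G} (h : H ≤ K) :
    Nat.card H * H.relIndex K = Nat.card K := by
  have h1 := relIndex_mul_relIndex ⊥ H K bot_le h
  rwa [relIndex_bot_left, relIndex_bot_left] at h1

/-- A normal subgroup meets a subgroup of `2`-power index in a subgroup of `2`-power index. -/
theorem relIndex_dvd_of_normal {G : Type u} [Group G] [Finite G] (C N : Subgroup G) [N.Normal] :
    C.relIndex N ∣ C.index := by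
  have h1 : Nat.card N * N.relIndex C ∣ Nat.card C * C.index := by
    rw [← relIndex_sup_right, card_mul_relIndex_of_le le_sup_right, C.card_mul_index]
    exact (C ⊔ N).card_subgroup_dvd_card
  have h2 := card_mul_relIndex_of_le (inf_le_right : C ⊓ N ≤ N)
  have h3 := card_mul_relIndex_of_le (inf_le_left : C ⊓ N ≤ C)
  rw [inf_relIndex_right] at h2
  rw [inf_relIndex_left] at h3
  rw [← h2, ← h3, mul_right_comm] at h1
  exact (mul_dvd_mul_iff_left
    (Nat.mul_ne_zero Nat.card_pos.ne' (fun h => Nat.card_pos.ne' (Nat.eq_zero_of_zero_dvd (h ▸ relIndex_dvd_card (H := N) (K := C)))))).1 h1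

theorem eq_one_of_coprime_dvd {a b : ℕ} (ha : Odd a) (h : b ∣ a) {n : ℕ} (hb : b ∣ 2 ^ n) :
    b = 1 :=
  Nat.eq_one_of_dvd_coprimes
    ((Nat.Coprime.pow_right n (Nat.coprime_two_right.2 ha))) h hb

set_option maxHeartbeats 800000 in
/-- The simple case. -/
theorem false_of_simple (hFT : OddOrderGlue.FeitThompson.{u}) {G : Type u} [Group G] [Finite G]
    (hA : ∀ (p : ℕ) [Fact p.Prime] (P : Sylow p G), IsMulCommutative (P : Subgroup G))
    (C : Subgroup G) (hodd : Odd (Nat.card C)) (n : ℕ) (hidx : C.index = 2 ^ n)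
    (hns : ¬ Group.IsSolvable G)
    (hsimple : ∀ N : Subgroup G, N.Normal → N = ⊥ ∨ N = ⊤)
    (hsub : ∀ X : Subgroup G, X ≠ ⊤ → (∃ k, (C.subgroupOf X).index = 2 ^ k) →
      Group.IsSolvable ↥X) : False := by
  classical
  haveI : Fact (Nat.Prime 2) := ⟨Nat.prime_two⟩
  have hev : ¬ Odd (Nat.card G) := fun h => hns (hFT G h)
  have hCtop : C ≠ ⊤ := fun h => hev (by rw [← card_top (G := G), ← h]; exact hodd)
  have hcardG : Nat.card C * 2 ^ n = Nat.card G := hidx ▸ C.card_mul_index
  obtain ⟨P⟩ : Nonempty (Sylow 2 G) := inferInstance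
  set S : Subgroup G := (P : Subgroup G) with hSdef
  haveI hSab : IsMulCommutative S := hA 2 P
  have hScard : Nat.card S = 2 ^ n := by
    rw [hSdef, P.card_eq_multiplicity, ← hcardG, Nat.factorization_mul (Nat.card_pos).ne'
      (by positivity), Nat.prime_two.factorization_pow]
    simp [Nat.factorization_eq_zero_of_not_dvd (fun h => (Nat.not_even_iff_odd.2 hodd)
      (even_iff_two_dvd.2 h))]
  have hSC : ∀ {x : G}, x ∈ S → x ∈ C → x = 1 := by
    intro x hxS hxC
    have h1 := Subgroup.orderOf_dvd_natCard C hxC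
    have h2 := Subgroup.orderOf_dvd_natCard S hxS
    rw [hScard] at h2
    exact orderOf_eq_one_iff.1 (eq_one_of_coprime_dvd hodd h1 h2)
  -- `G = S C`
  have hprod : ∀ g : G, ∃ s ∈ S, ∃ c ∈ C, g = s * c := by
    have hbij : Function.Bijective (fun q : ↥S × ↥C => (q.1 : G) * q.2) := by
      rw [Nat.bijective_iff_injective_and_card]
      refine ⟨?_, by rw [Nat.card_prod, hScard, mul_comm, hcardG]⟩
      rintro ⟨s, c⟩ ⟨s', c'⟩ h
      simp only at h
      have h1 : (s' : G)⁻¹ * s = c' * (c : G)⁻¹ := by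
        calc (s' : G)⁻¹ * s = (s' : G)⁻¹ * ((s : G) * c) * (c : G)⁻¹ := by group
          _ = c' * (c : G)⁻¹ := by rw [h]; group
      have h2 : (s' : G)⁻¹ * s = 1 :=
        hSC (mul_mem (inv_mem s'.2) s.2) (h1 ▸ mul_mem c'.2 (inv_mem c.2))
      rw [h2, eq_comm, mul_inv_eq_one] at h1
      exact Prod.ext (Subtype.ext (inv_mul_eq_one.1 h2).symm) (Subtype.ext h1.symm)
    intro g
    obtain ⟨⟨s, c⟩, h⟩ := hbij.2 g
    exact ⟨s, s.2, c, c.2, h.symm⟩
  -- odd subgroups normalised by `S` are trivial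
  have hcore : ∀ K : Subgroup G, Odd (Nat.card K) → S ≤ normalizer (K : Set G) → K = ⊥ := by
    intro K hK hSK
    -- `K ≤ C`
    have hKC : K ≤ C := by
      set X := K ⊔ S with hX
      have hKn : (K.subgroupOf X).Normal :=
        normal_subgroupOf_of_le_normalizer (sup_le le_normalizer hSK)
      have hCX : C ⊓ X ≤ K := by
        rintro c ⟨hcC, hcX⟩
        set f := QuotientGroup.mk' (K.subgroupOf X) with hf
        -- the image of `c` is a `2`-element
        have hall : ∀ y : ↥X, ∃ s : ↥S, f y = f ⟨s, mem_sup_right s.2⟩ := by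
          rintro ⟨y, hy⟩
          have hy' : y ∈ ((S ⊔ K : Subgroup G) : Set G) := by
            rw [SetLike.mem_coe, sup_comm]; exact hy
          rw [Subgroup.coe_mul_of_left_le_normalizer_right S K hSK] at hy'
          obtain ⟨s, hs, k, hk, rfl⟩ := hy'
          refine ⟨⟨s, hs⟩, ?_⟩
          rw [hf, QuotientGroup.mk'_apply, QuotientGroup.mk'_apply, QuotientGroup.eq,
            mem_subgroupOf]
          simpa using K.inv_mem hk
        obtain ⟨s, hs⟩ := hall ⟨c, hcX⟩
        have h1 : orderOf (f ⟨c, hcX⟩) ∣ Nat.card C := by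
          refine (orderOf_map_dvd f _).trans ?_
          rw [Subgroup.orderOf_mk]
          exact Subgroup.orderOf_dvd_natCard C hcC
        have h2 : orderOf (f ⟨c, hcX⟩) ∣ 2 ^ n := by
          rw [hs]
          refine (orderOf_map_dvd f _).trans ?_
          rw [Subgroup.orderOf_mk, ← hScard]
          exact Subgroup.orderOf_dvd_natCard S s.2
        have h3 := orderOf_eq_one_iff.1 (eq_one_of_coprime_dvd hodd h1 h2)
        rw [hf, QuotientGroup.mk'_apply, QuotientGroup.eq_one_iff, mem_subgroupOf] at h3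
        exact h3
      have hcard : Nat.card K ≤ Nat.card ↥(C ⊓ X) := by
        have hX1 : Nat.card ↥(C ⊓ X) * C.relIndex X = Nat.card X := by
          rw [← inf_relIndex_right]
          exact card_mul_relIndex_of_le inf_le_right
        have hX2 : C.relIndex X ≤ 2 ^ n := by
          have h := Subgroup.relIndex_le_of_le_right (H := C) (le_top : X ≤ ⊤)
            (by rw [relIndex_top_right, hidx]; positivity)
          rwa [relIndex_top_right, hidx] at h
        have hX3 : Nat.card K * 2 ^ n ≤ Nat.card X := by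
          refine Nat.le_of_dvd Nat.card_pos (Nat.Coprime.mul_dvd_of_dvd_of_dvd
            (Nat.Coprime.pow_right n (Nat.coprime_two_right.2 hK)) ?_ ?_)
          · exact card_dvd_of_le le_sup_left
          · rw [← hScard]; exact card_dvd_of_le le_sup_right
        have h4 : Nat.card K * 2 ^ n ≤ Nat.card ↥(C ⊓ X) * 2 ^ n :=
          hX3.trans (hX1 ▸ Nat.mul_le_mul_left _ hX2)
        exact Nat.le_of_mul_le_mul_right h4 (by positivity)
      have := eq_of_le_of_card_ge hCX hcard
      exact this ▸ inf_le_left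
    have hle : K ≤ C.normalCore := by
      intro k hk g
      obtain ⟨s, hs, c, hc, hg⟩ := hprod g⁻¹
      have hg' : g = c⁻¹ * s⁻¹ := by rw [← inv_inv g, hg, mul_inv_rev]
      have h1 : s⁻¹ * k * s ∈ K := by
        have := (mem_normalizer_iff.1 (hSK (inv_mem hs)) k).1 hk
        simpa using this
      rw [hg']
      have h2 := C.mul_mem (C.mul_mem (C.inv_mem hc) (hKC h1)) hc
      simpa [mul_assoc] using h2
    rcases hsimple _ C.normalCore_normal with h | h
    · exact le_bot_iff.1 (h ▸ hle)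
    · exact absurd (top_le_iff.1 (h ▸ C.normalCore_le)) hCtop
  -- subgroups containing `S` normalise it
  have hover : ∀ X : Subgroup G, S ≤ X → X ≠ ⊤ → X ≤ normalizer (S : Set G) := by
    intro X hSX hXtop
    have hidxX : ∃ k, (C.subgroupOf X).index = 2 ^ k := by
      have hX1 : Nat.card ↥(C.subgroupOf X) * (C.subgroupOf X).index = Nat.card X :=
        Subgroup.card_mul_index _
      refine ⟨n, ?_⟩
      have h1 : 2 ^ n ∣ (C.subgroupOf X).index := by
        have h2 : 2 ^ n ∣ Nat.card ↥(C.subgroupOf X) * (C.subgroupOf X).index := by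
          rw [hX1, ← hScard]; exact card_dvd_of_le hSX
        refine (Nat.Coprime.dvd_of_dvd_mul_left ?_ h2)
        refine (Nat.Coprime.pow_left n (Nat.coprime_two_left.2 ?_))
        refine hodd.of_dvd_nat ?_
        rw [← inf_subgroupOf_right, Nat.card_congr
          (Subgroup.subgroupOfEquivOfLe (inf_le_right : C ⊓ X ≤ X)).toEquiv]
        exact card_dvd_of_le inf_le_left
      have h2 : (C.subgroupOf X).index ≤ 2 ^ n := by
        have h := Subgroup.relIndex_le_of_le_right (H := C) (le_top : X ≤ ⊤)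
          (by rw [relIndex_top_right, hidx]; positivity)
        rwa [relIndex_top_right, hidx] at h
      exact le_antisymm h2 (Nat.le_of_dvd (Nat.pos_of_ne_zero index_ne_zero_of_finite) h1)
    haveI : Group.IsSolvable ↥X := hsub X hXtop hidxX
    set S' := S.subgroupOf X with hS'
    have hF : Cfsg.fittingSubgroup ↥X ≤ S' := by
      rw [Fitting.fitting_eq_iSup_pCore]
      refine iSup_le fun p => ?_
      haveI : Fact (p : ℕ).Prime := ⟨p.2⟩
      by_cases hp : (p : ℕ) = 2
      · have h := Fitting.pCore_le_sylow (G := ↥X) (P.subtype hSX)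
        rw [hp]
        exact h
      · set K := (Cfsg.pCore (p : ℕ) ↥X).map X.subtype with hK
        have hKb : K = ⊥ := by
          refine hcore K ?_ ?_
          · obtain ⟨k, hk⟩ := ((Fitting.pCore_isPGroup (G := ↥X) (p : ℕ)).map X.subtype).exists_card_eq
            rw [hk]
            exact (p.2.odd_of_ne_two hp).pow
          · refine le_trans ?_ (le_normalizer_map X.subtype)
            rw [normalizer_eq_top]
            simpa [← MonoidHom.range_eq_map] using hSX
        rw [map_eq_bot_iff_of_injective _ X.subtype_injective] at hKb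
        rw [hKb]; exact bot_le
    have hFn : (Cfsg.fittingSubgroup ↥X).Normal := Fitting.fitting_normal
    have hS'F : S' ≤ Cfsg.fittingSubgroup ↥X := by
      refine le_trans ?_ (Fitting.centralizer_fitting_le (G := ↥X))
      intro x hx y hy
      exact Subtype.ext (setLike_mul_comm (S := Subgroup G) (mem_subgroupOf.1 (hF hy))
        (mem_subgroupOf.1 hx))
    have heq : S' = Cfsg.fittingSubgroup ↥X := le_antisymm hS'F hF
    haveI : (S.subgroupOf X).Normal := by rw [← hS', heq]; exact hFn
    exact (normal_subgroupOf_iff_le_normalizer hSX).1 inferInstance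
  set N := normalizer (S : Set G) with hN
  have hSN : S ≤ N := le_normalizer
  have hNtop : N ≠ ⊤ := by
    intro h
    rcases hsimple S (normalizer_eq_top_iff.1 h) with hb | ht
    · rw [hb, card_bot] at hScard
      apply hev
      rw [← hcardG, ← hScard, mul_one]
      exact hodd
    · apply hns
      have h2 : IsPGroup 2 G :=
        IsPGroup.of_equiv (ht ▸ P.isPGroup' : IsPGroup 2 ↥(⊤ : Subgroup G)) Subgroup.topEquiv
      haveI := h2.isNilpotent
      infer_instance
  -- `2`-elements of `N` lie in `S`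
  have hSN2 : ∀ x ∈ N, (∃ k, x ^ 2 ^ k = 1) → x ∈ S := by
    rintro x hx ⟨k, hk⟩
    have hz : IsPGroup 2 (zpowers x) := by
      intro y
      refine ⟨k, Subtype.ext ?_⟩
      obtain ⟨i, hi⟩ := mem_zpowers_iff.1 y.2
      rw [SubmonoidClass.coe_pow, ← hi, ← zpow_natCast, ← zpow_mul, mul_comm, zpow_mul,
        zpow_natCast, hk, one_zpow]
      rfl
    have h := hz.to_sup_of_normal_right' P.isPGroup' (zpowers_le.2 hx)
    have hmax := P.is_maximal' h le_sup_right
    exact (SetLike.ext_iff.1 hmax x).1 (mem_sup_left (mem_zpowers x))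
  have hcent_bot : Subgroup.center G = ⊥ := by
    rcases hsimple (center G) inferInstance with h | h
    · exact h
    · exfalso
      apply hns
      exact Group.isSolvable_of_comm fun a b =>
        (mem_center_iff.1 (h ▸ mem_top b) a)
  -- centralisers of involutions of `S`
  have hCz : ∀ z ∈ S, z ≠ 1 → ∀ x, x * z = z * x → x ∈ N := by
    intro z hz hz1 x hx
    refine hover (centralizer {z}) ?_ ?_ (mem_centralizer_singleton_iff.2 hx)
    · intro s hs
      exact mem_centralizer_singleton_iff.2 (setLike_mul_comm hs hz)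
    · intro h
      apply hz1
      rw [← mem_bot, ← hcent_bot, mem_center_iff]
      intro g
      exact mem_centralizer_singleton_iff.1 (h ▸ mem_top g)
  -- T.I.
  have hTI : ∀ g x : G, x ∈ S → x ≠ 1 → g * x * g⁻¹ ∈ S → g ∈ N := by
    intro g x hx hx1 hgx
    have h1 : ∀ s ∈ S, g⁻¹ * s * g ∈ S := by
      intro s hs
      refine hSN2 _ (hCz x hx hx1 _ ?_) ⟨n, ?_⟩
      · have := setLike_mul_comm hs hgx
        calc g⁻¹ * s * g * x = g⁻¹ * (s * (g * x * g⁻¹)) * g := by group
          _ = g⁻¹ * (g * x * g⁻¹ * s) * g := by rw [this]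
          _ = x * (g⁻¹ * s * g) := by group
      · have : s ^ 2 ^ n = 1 := by
          rw [← hScard]
          exact congrArg Subtype.val (pow_card_eq_one' (x := (⟨s, hs⟩ : ↥S)))
        have h3 := (conj_pow (a := g⁻¹) (b := s) (i := 2 ^ n))
        rw [inv_inv] at h3
        rw [h3, this]
        group
    have h2 : g⁻¹ ∈ N := by
      refine mem_normalizer_iff.2 fun s => ⟨fun hs => by simpa using h1 s hs, fun hs => ?_⟩
      obtain ⟨⟨t, ht⟩, h⟩ :=
        ((Finite.injective_iff_surjective
            (f := fun t : ↥S => (⟨g⁻¹ * t * g, h1 t t.2⟩ : ↥S))).1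
          (fun a b hab => Subtype.ext (by simpa using congrArg Subtype.val hab)))
          ⟨g⁻¹ * s * g⁻¹⁻¹, hs⟩
      have h' : g⁻¹ * t * g = g⁻¹ * s * g := by simpa using congrArg Subtype.val h
      have : t = s := mul_left_cancel (mul_right_cancel h')
      exact this ▸ ht
    simpa using inv_mem h2
  -- the involutions of `S`
  let V : Subgroup G :=
    { carrier := {x | x ∈ S ∧ x ^ 2 = 1}
      one_mem' := ⟨one_mem S, one_pow 2⟩
      mul_mem' := fun {a b} ha hb => ⟨mul_mem ha.1 hb.1, by
        rw [(show Commute a b from setLike_mul_comm ha.1 hb.1).mul_pow, ha.2, hb.2, one_mul]⟩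
      inv_mem' := fun {a} ha => ⟨inv_mem ha.1, by rw [inv_pow, ha.2, inv_one]⟩ }
  have hV : ∀ {x}, x ∈ V ↔ x ∈ S ∧ x ^ 2 = 1 := Iff.rfl
  haveI : IsMulCommutative V :=
    ⟨⟨fun a b => Subtype.ext (setLike_mul_comm (hV.1 a.2).1 (hV.1 b.2).1)⟩⟩
  set Γ := N ⊓ C with hΓ
  have hN' : ∀ {g}, g ∈ N → ∀ x ∈ S, g * x * g⁻¹ ∈ S := fun hg x hx =>
    (mem_normalizer_iff.1 hg x).1 hx
  have hΓV : Γ ≤ normalizer (V : Set G) := by
    intro g hg
    refine mem_normalizer_iff.2 fun x => ?_
    rw [hV, hV, ← mem_normalizer_iff.1 hg.1 x, conj_pow, conj_eq_one_iff]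
  have hfaith : ∀ g ∈ Γ, (∀ v ∈ V, g * v = v * g) → g = 1 := by
    intro g hg hgV
    have hord : Odd (orderOf g) := hodd.of_dvd_nat (Subgroup.orderOf_dvd_natCard C hg.2)
    have h1 : ∀ x ∈ S, g * x = x * g := by
      intro x hx
      refine commute_of_fixes_involutions hord (hN' hg.1)
        (fun y hy hy2 => hgV y ⟨hy, hy2⟩) n x hx ?_
      rw [← hScard]
      exact congrArg Subtype.val (pow_card_eq_one' (x := (⟨x, hx⟩ : ↥S)))
    have h2 : Γ ⊓ centralizer (S : Set G) = ⊥ := by
      refine hcore _ (hodd.of_dvd_nat (card_dvd_of_le (inf_le_left.trans inf_le_right))) ?_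
      intro s hs
      refine mem_normalizer_iff.2 fun x => ⟨fun hx => ?_, fun hx => ?_⟩
      · have : s * x = x * s := hx.2 s hs
        rwa [this, mul_inv_cancel_right]
      · have : s * (s * x * s⁻¹) = s * x * s⁻¹ * s := hx.2 s hs
        have h3 : s * x * s⁻¹ = x := by
          rw [inv_mul_cancel_right] at this
          exact mul_left_cancel this
        rwa [h3] at hx
    rw [← mem_bot, ← h2]
    exact ⟨hg, fun x hx => (h1 x hx).symm⟩
  -- fusion
  have hout : ∀ t : G, orderOf t = 2 → t ∉ N → ∀ a ∈ S, orderOf a = 2 → IsConj a t := by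
    intro t ht htN a ha hao
    by_cases hpar : Odd (orderOf (a * t))
    · exact Involution.isConj_of_odd hao ht hpar
    · exfalso
      rw [Nat.not_odd_iff_even] at hpar
      have ha2 : a * a = 1 := by rw [← sq, ← hao]; exact pow_orderOf_eq_one a
      have ht2 : t * t = 1 := by rw [← sq, ← ht]; exact pow_orderOf_eq_one t
      set z := (a * t) ^ (orderOf (a * t) / 2) with hz
      have hz2 : orderOf z = 2 := Involution.orderOf_pow_half hpar (orderOf_pos _).ne'
      have hza : z * a = a * z := Involution.commute_pow_half_left ha2 ht2 hpar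
      have hzat : z * (a * t) = a * t * z := ((Commute.refl (a * t)).pow_left _).eq
      have hzt : t * z = z * t := by
        apply mul_left_cancel (a := a)
        calc a * (t * z) = a * t * z := (mul_assoc _ _ _).symm
          _ = z * (a * t) := hzat.symm
          _ = z * a * t := (mul_assoc _ _ _).symm
          _ = a * (z * t) := by rw [hza, mul_assoc]
      have hzS : z ∈ S := hSN2 z
        (hCz a ha (by rintro rfl; simp at hao) z hza)
        ⟨1, by rw [pow_one, ← hz2]; exact pow_orderOf_eq_one z⟩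
      exact htN (hCz z hzS (by intro h; rw [h] at hz2; simp at hz2) t hzt)
  have hexout : ∀ a ∈ S, orderOf a = 2 → ∃ t, orderOf t = 2 ∧ t ∉ N := by
    intro a ha hao
    obtain ⟨g, hg⟩ : ∃ g, g ∉ N := by
      by_contra h
      exact hNtop (eq_top_iff' N |>.2 fun g => by
        by_contra hg; exact h ⟨g, hg⟩)
    refine ⟨g * a * g⁻¹, ?_, fun hmem => hg (hTI g a ha (by rintro rfl; simp at hao) ?_)⟩
    · rw [← hao]
      exact orderOf_injective (MulAut.conj g).toMonoidHom (MulAut.conj g).injective a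
    · refine hSN2 _ hmem ⟨1, ?_⟩
      rw [pow_one, conj_pow, ← hao, pow_orderOf_eq_one]
      group
  have hord2 : ∀ {x : G}, x ∈ V → x ≠ 1 → orderOf x = 2 := fun hx hx1 =>
    orderOf_eq_prime (hV.1 hx).2 hx1
  have htr : ∀ v ∈ V, v ≠ 1 → ∀ w ∈ V, w ≠ 1 → ∃ g ∈ Γ, g * v * g⁻¹ = w := by
    intro v hv hv1 w hw hw1
    obtain ⟨t, ht, htN⟩ := hexout v hv.1 (hord2 hv hv1)
    have hconj := (hout t ht htN v hv.1 (hord2 hv hv1)).trans
      (hout t ht htN w hw.1 (hord2 hw hw1)).symm
    obtain ⟨g, hg⟩ := isConj_iff.1 hconj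
    have hgN : g ∈ N := hTI g v hv.1 hv1 (hg ▸ hw.1)
    obtain ⟨s, hs, c, hc, rfl⟩ := hprod g
    have hcN : c ∈ N := by
      have := mul_mem (inv_mem (hSN hs)) hgN
      rwa [inv_mul_cancel_left] at this
    refine ⟨c, ⟨hcN, hc⟩, ?_⟩
    have h1 : c * v * c⁻¹ ∈ S := hN' hcN v hv.1
    have h2 := setLike_mul_comm hs h1
    calc c * v * c⁻¹ = c * v * c⁻¹ * s * s⁻¹ := by group
      _ = s * (c * v * c⁻¹) * s⁻¹ := by rw [h2]
      _ = w := by rw [← hg]; group
  -- `V` has more than two elements
  have hn : n ≠ 0 := by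
    intro h
    apply hev
    rw [← hcardG, h, pow_zero, mul_one]
    exact hodd
  obtain ⟨a, haV, ha1⟩ : ∃ a ∈ V, a ≠ 1 := by
    obtain ⟨a, ha⟩ := exists_prime_orderOf_dvd_card' 2
      (show 2 ∣ Nat.card S by rw [hScard]; exact dvd_pow_self 2 hn)
    have ha' : orderOf (a : G) = 2 := by rw [← ha]; exact Subgroup.orderOf_coe a
    refine ⟨a, ⟨a.2, by rw [← ha']; exact pow_orderOf_eq_one _⟩, ?_⟩
    intro h; rw [h] at ha'; simp at ha'
  have hV2 : 2 < Nat.card V := by
    by_contra hle
    have hVa : ∀ x ∈ V, x = 1 ∨ x = a := by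
      intro x hx
      by_contra hne
      simp only [not_or] at hne
      apply hle
      have h3 : ({⟨1, one_mem V⟩, ⟨a, haV⟩, ⟨x, hx⟩} : Finset ↥V).card = 3 :=
        Finset.card_eq_three.2 ⟨_, _, _, fun h => ha1 (congrArg Subtype.val h).symm,
          fun h => hne.1 (congrArg Subtype.val h).symm,
          fun h => hne.2 (congrArg Subtype.val h).symm, rfl⟩
      haveI := Fintype.ofFinite ↥V
      have h4 := Finset.card_le_univ ({⟨1, one_mem V⟩, ⟨a, haV⟩, ⟨x, hx⟩} : Finset ↥V)
      rw [h3, ← Nat.card_eq_fintype_card] at h4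
      omega
    -- then `N` centralises `S`
    have hΓ1 : ∀ g ∈ Γ, g = 1 := by
      intro g hg
      refine hfaith g hg fun v hv => ?_
      rcases hVa v hv with rfl | rfl
      · simp
      · have h1 := (mem_normalizer_iff.1 (hΓV hg) v).1 hv
        rcases hVa _ h1 with h | h
        · exact absurd (conj_eq_one_iff.1 h) ha1
        · exact mul_inv_eq_iff_eq_mul.1 h
    have hNC : normalizer ((P : Subgroup G) : Set G) ≤ centralizer ((P : Subgroup G) : Set G) := by
      intro g hg
      obtain ⟨s, hs, c, hc, rfl⟩ := hprod g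
      have hcN : c ∈ N := by
        have := mul_mem (inv_mem (hSN hs)) hg
        rwa [inv_mul_cancel_left] at this
      rw [hΓ1 c ⟨hcN, hc⟩, mul_one]
      exact fun x hx => setLike_mul_comm hx hs
    have hcompl := MonoidHom.ker_transferSylow_isComplement' P hNC
    rcases hsimple (MonoidHom.transferSylow P hNC).ker inferInstance with hk | hk
    · rw [hk, isComplement'_bot_left] at hcompl
      exact hNtop (by rw [hN, normalizer_eq_top_iff, hSdef, hcompl]; infer_instance)
    · rw [hk, isComplement'_top_left] at hcompl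
      have : Nat.card S = 1 := by rw [hSdef, hcompl, card_bot]
      rw [hScard] at this
      exact hn ((Nat.pow_eq_one.1 this).resolve_left (by norm_num))
  have hAΓ := sylow_abelian_subgroup hA Γ
  have hoddΓ : Odd (Nat.card Γ) := hodd.of_dvd_nat (card_dvd_of_le inf_le_right)
  -- counting involutions
  let R := fun u : G => N.comap (MulAut.conj u).toMonoidHom
  obtain ⟨u, hu2, huN, hcount⟩ : ∃ u : G, u * u = 1 ∧ u ∉ N ∧
      Nat.card V ≤ Nat.card {x : G // orderOf x = 2 ∧ x * u⁻¹ ∈ N} + 1 := by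
    set M := Nat.card V - 1 with hM
    haveI := Fintype.ofFinite G
    haveI : Fintype (G ⧸ N) := Fintype.ofFinite _
    -- all conjugates of the involutions of `S`
    set I := Finset.univ.filter (fun x : G => orderOf x = 2 ∧ x ∉ N) with hI
    have hinj : ∀ q : G ⧸ N, q ≠ ((1 : G) : G ⧸ N) → ∀ v ∈ V, v ≠ 1 →
        q.out * v * q.out⁻¹ ∈ I := by
      intro q hq v hv hv1
      rw [hI, Finset.mem_filter]
      refine ⟨Finset.mem_univ _, ?_, fun h => hq ?_⟩
      · rw [← hord2 hv hv1]
        exact orderOf_injective (MulAut.conj q.out).toMonoidHom (MulAut.conj q.out).injective v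
      · have h2 : q.out ∈ N := hTI _ v hv.1 hv1 (hSN2 _ h ⟨1, by
          rw [pow_one, conj_pow, (hV.1 hv).2]; group⟩)
        rw [← q.out_eq']
        exact QuotientGroup.eq.2 (by simpa using inv_mem h2)
    have hIcard : (Fintype.card (G ⧸ N) - 1) * M ≤ I.card := by
      set A := (Finset.univ.erase ((1 : G) : G ⧸ N)) ×ˢ
        ((Finset.univ.filter (fun x : G => x ∈ V)).erase 1) with hA'
      have hAc : A.card = (Fintype.card (G ⧸ N) - 1) * M := by
        rw [hA', Finset.card_product, Finset.card_erase_of_mem (Finset.mem_univ _),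
          Finset.card_univ, Finset.card_erase_of_mem (by simp [one_mem V]), hM]
        congr 2
        rw [Nat.card_eq_fintype_card, ← Fintype.card_coe]
        exact Fintype.card_congr (Equiv.subtypeEquivRight (by simp))
      rw [← hAc]
      refine Finset.card_le_card_of_injOn (fun p => p.1.out * p.2 * p.1.out⁻¹) ?_ ?_
      · intro p hp
        simp only [hA', Finset.coe_product, Set.mem_prod, Finset.coe_erase, Finset.mem_coe,
          Set.mem_diff, Set.mem_singleton_iff, Finset.coe_univ, Set.mem_univ, true_and,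
          Finset.coe_filter, Finset.mem_univ, Set.mem_setOf_eq] at hp
        exact hinj _ hp.1 _ hp.2.1 hp.2.2
      · intro p hp q hq h
        simp only [hA', Finset.coe_product, Set.mem_prod, Finset.coe_erase, Finset.mem_coe,
          Set.mem_diff, Set.mem_singleton_iff, Finset.coe_univ, Set.mem_univ, true_and,
          Finset.coe_filter, Finset.mem_univ, Set.mem_setOf_eq] at hp hq
        simp only at h
        have h1 : (q.1.out⁻¹ * p.1.out) * p.2 * (q.1.out⁻¹ * p.1.out)⁻¹ = q.2 := by
          calc (q.1.out⁻¹ * p.1.out) * p.2 * (q.1.out⁻¹ * p.1.out)⁻¹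
              = q.1.out⁻¹ * (p.1.out * p.2 * p.1.out⁻¹) * q.1.out := by group
            _ = q.2 := by rw [h]; group
        have hN1 := hTI _ _ hp.2.1.1 hp.2.2 (h1 ▸ hq.2.1.1)
        have hq1 : p.1 = q.1 := by
          rw [← p.1.out_eq', ← q.1.out_eq']
          exact (QuotientGroup.eq.2 hN1).symm
        rw [hq1] at h
        exact Prod.ext hq1 (mul_left_cancel (mul_right_cancel h))
    set T := Finset.univ.erase ((1 : G) : G ⧸ N) with hT
    have hTne : T.Nonempty := by
      obtain ⟨t, -, htN⟩ := hexout a haV.1 (hord2 haV ha1)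
      refine ⟨(t : G ⧸ N), Finset.mem_erase.2 ⟨fun h => htN ?_, Finset.mem_univ _⟩⟩
      simpa using QuotientGroup.eq.1 h
    have hmaps : ∀ x ∈ I, ((x⁻¹ : G) : G ⧸ N) ∈ T := by
      intro x hx
      rw [hI, Finset.mem_filter] at hx
      refine Finset.mem_erase.2 ⟨fun h => hx.2.2 ?_, Finset.mem_univ _⟩
      simpa using QuotientGroup.eq.1 h
    obtain ⟨q, hqT, hq⟩ := Finset.exists_le_card_fiber_of_mul_le_card_of_maps_to (n := M) hmaps
      hTne (by rw [hT, Finset.card_erase_of_mem (Finset.mem_univ _), Finset.card_univ]; exact hIcard)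
    obtain ⟨u, hu⟩ : ({x ∈ I | ((x⁻¹ : G) : G ⧸ N) = q}).Nonempty := by
      rw [← Finset.card_pos]
      omega
    rw [Finset.mem_filter] at hu
    have hu' := hu.1
    rw [hI, Finset.mem_filter] at hu'
    refine ⟨u, by rw [← sq, ← hu'.2.1]; exact pow_orderOf_eq_one u, hu'.2.2, ?_⟩
    have hle : ({x ∈ I | ((x⁻¹ : G) : G ⧸ N) = q}).card ≤
        Nat.card {x : G // orderOf x = 2 ∧ x * u⁻¹ ∈ N} := by
      rw [Nat.card_eq_fintype_card, Fintype.card_subtype]
      refine Finset.card_le_card fun x hx => ?_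
      rw [Finset.mem_filter] at hx ⊢
      refine ⟨Finset.mem_univ _, (Finset.mem_filter.1 hx.1).2.1, ?_⟩
      have := QuotientGroup.eq.1 (hx.2.trans hu.2.symm)
      simpa using this
    omega
  have huinv : u⁻¹ = u := inv_eq_of_mul_eq_one_right hu2
  set D := N ⊓ R u with hD
  have hDmem : ∀ {d}, d ∈ D ↔ d ∈ N ∧ u * d * u⁻¹ ∈ N := Iff.rfl
  have hDsize : Nat.card V ≤ Nat.card D + 1 := by
    refine hcount.trans (Nat.add_le_add_right ?_ 1)
    refine Nat.card_le_card_of_injective (fun x => (⟨x.1 * u⁻¹, hDmem.2 ⟨x.2.2, ?_⟩⟩ : ↥D)) ?_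
    · have hx : x.1⁻¹ = x.1 := inv_eq_of_mul_eq_one_right (by
        have h2 := pow_orderOf_eq_one x.1
        rwa [x.2.1, sq] at h2)
      have h := inv_mem x.2.2
      rw [mul_inv_rev, inv_inv, hx] at h
      have h3 : u * (x.1 * u⁻¹) * u⁻¹ = u * x.1 :=
        calc u * (x.1 * u⁻¹) * u⁻¹ = u * x.1 * (u⁻¹ * u⁻¹) := by group
          _ = u * x.1 := by rw [← mul_inv_rev, hu2, inv_one, mul_one]
      rw [h3]
      exact h
    · intro x y h
      exact Subtype.ext (mul_right_cancel (congrArg Subtype.val h))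
  have hDodd : ∀ d ∈ D, ∀ k, d ^ 2 ^ k = 1 → d = 1 := by
    intro d hd k hk
    by_contra hd1
    rw [hDmem] at hd
    have h1 := hSN2 d hd.1 ⟨k, hk⟩
    have h2 := hSN2 _ hd.2 ⟨k, by rw [conj_pow, hk]; group⟩
    exact huN (hTI u d h1 hd1 h2)
  have hDS : ∀ {x}, x ∈ D → x ∈ S → x = 1 := by
    intro x hxD hxS
    refine hDodd x hxD n ?_
    rw [← hScard]
    exact congrArg Subtype.val (pow_card_eq_one' (x := (⟨x, hxS⟩ : ↥S)))
  have hDcard : Odd (Nat.card D) := by
    rw [← Nat.not_even_iff_odd, even_iff_two_dvd]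
    intro h
    obtain ⟨d, hd⟩ := exists_prime_orderOf_dvd_card' 2 h
    have h1 := hDodd d d.2 1 (by
      rw [pow_one, ← hd, ← Subgroup.orderOf_coe]; exact pow_orderOf_eq_one _)
    rw [← Subgroup.orderOf_coe, h1, orderOf_one] at hd
    norm_num at hd
  -- `D` fixes a point: some `t ∈ S` has `t⁻¹ D t ≤ C`
  obtain ⟨t, htS, htD⟩ : ∃ t ∈ S, ∀ d ∈ D, t⁻¹ * d * t ∈ C := by
    letI : CommGroup ↥S := IsMulCommutative.instCommGroup
    haveI := Fintype.ofFinite ↥D
    choose σ hσ c hc hdc using hprod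
    let f : ↥D → ↥S := fun d => ⟨σ d, hσ d⟩
    let cj : ↥D → ↥S →* ↥S := fun d =>
      { toFun := fun x => ⟨(d : G) * x * (d : G)⁻¹, hN' d.2.1 x x.2⟩
        map_one' := Subtype.ext (by simp)
        map_mul' := fun x y => Subtype.ext (by simp only [Subgroup.coe_mul]; group) }
    have huniq : ∀ s ∈ S, ∀ s' ∈ S, ∀ x ∈ C, ∀ x' ∈ C, s * x = s' * x' → s = s' := by
      intro s hs s' hs' x hx x' hx' h
      have h1 : s'⁻¹ * s = x' * x⁻¹ := by
        calc s'⁻¹ * s = s'⁻¹ * (s * x) * x⁻¹ := by group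
          _ = x' * x⁻¹ := by rw [h]; group
      exact (inv_mul_eq_one.1 (hSC (mul_mem (inv_mem hs') hs)
        (h1 ▸ mul_mem hx' (inv_mem hx)))).symm
    have hcoc : ∀ d e : ↥D, f (d * e) = f d * cj d (f e) := by
      intro d e
      have hdN : (d : G) ∈ N := (Subgroup.mem_inf.1 d.2).1
      have hdS : (d : G) * σ (e : G) * (d : G)⁻¹ ∈ S := hN' hdN (σ (e : G)) (hσ (e : G))
      refine Subtype.ext (huniq (σ ((d * e : ↥D) : G)) (hσ _)
        (σ (d : G) * ((d : G) * σ (e : G) * (d : G)⁻¹)) (mul_mem (hσ _) hdS)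
        (c ((d * e : ↥D) : G)) (hc _)
        (c (d : G) * c (e : G)) (mul_mem (hc _) (hc _)) ?_)
      rw [← hdc]
      have hcdS : c (d : G) * σ (e : G) * (c (d : G))⁻¹ ∈ S := by
        refine hN' ?_ _ (hσ _)
        have h := mul_mem (inv_mem (hSN (hσ (d : G)))) d.2.1
        rwa [show (σ (d : G))⁻¹ * (d : G) = c (d : G) by
          nth_rewrite 2 [hdc (d : G)]; group] at h
      have h1 : (d : G) * σ (e : G) * (d : G)⁻¹ = c (d : G) * σ (e : G) * (c (d : G))⁻¹ := by
        nth_rewrite 1 [hdc (d : G)]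
        nth_rewrite 3 [hdc (d : G)]
        rw [show σ (d : G) * c (d : G) * σ (e : G) * (σ (d : G) * c (d : G))⁻¹
          = σ (d : G) * (c (d : G) * σ (e : G) * (c (d : G))⁻¹) * (σ (d : G))⁻¹ by group,
          setLike_mul_comm (hσ (d : G)) hcdS, mul_inv_cancel_right]
      calc ((d * e : ↥D) : G) = σ (d : G) * c (d : G) * (σ (e : G) * c (e : G)) := by
            rw [← hdc, ← hdc]; rfl
        _ = σ (d : G) * ((d : G) * σ (e : G) * (d : G)⁻¹) * (c (d : G) * c (e : G)) := by
            rw [h1]; group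
    set s := ∏ e, f e with hs
    have hprodf : ∀ d : ↥D, s = f d ^ Fintype.card ↥D * cj d s := by
      intro d
      conv_lhs => rw [hs, ← Equiv.prod_comp (Equiv.mulLeft d) f]
      simp only [Equiv.coe_mulLeft, hcoc, Finset.prod_mul_distrib, Finset.prod_const,
        Finset.card_univ]
      rw [map_prod]
    have hk : (Nat.card ↥S).Coprime (Fintype.card ↥D) := by
      rw [hScard, ← Nat.card_eq_fintype_card]
      exact Nat.Coprime.pow_left n (Nat.coprime_two_left.2 hDcard)
    obtain ⟨t, ht⟩ := (powCoprime hk).surjective s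
    rw [powCoprime_apply] at ht
    refine ⟨t, t.2, fun d hd => ?_⟩
    have h1 : f ⟨d, hd⟩ = t * (cj ⟨d, hd⟩ t)⁻¹ := by
      apply (powCoprime hk).injective
      rw [powCoprime_apply, powCoprime_apply, mul_pow, inv_pow, ← map_pow, ht,
        eq_mul_inv_iff_mul_eq]
      exact (hprodf ⟨d, hd⟩).symm
    have h2 : σ d = (t : G) * ((d * t * d⁻¹)⁻¹) := congrArg Subtype.val h1
    have h3 : c d = (d * (t : G) * d⁻¹) * (t : G)⁻¹ * d := by
      calc c d = (σ d)⁻¹ * (σ d * c d) := by group
        _ = (σ d)⁻¹ * d := by rw [← hdc]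
        _ = _ := by rw [h2]; group
    have h4 : (d * (t : G) * d⁻¹) * (t : G)⁻¹ = (t : G)⁻¹ * (d * (t : G) * d⁻¹) :=
      setLike_mul_comm (hN' hd.1 _ t.2) (inv_mem t.2)
    rw [h4] at h3
    have := hc d
    rw [h3] at this
    simpa [mul_assoc] using this
  -- conclusion
  set u' := t⁻¹ * u * t with hu'
  have hu'2 : u' * u' = 1 := by
    calc u' * u' = t⁻¹ * (u * u) * t := by rw [hu']; group
      _ = 1 := by rw [hu2]; group
  have hDu : ∀ d ∈ D, u * d * u⁻¹ ∈ D := by
    intro d hd
    rw [hDmem] at hd ⊢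
    refine ⟨hd.2, ?_⟩
    have h : u * (u * d * u⁻¹) * u⁻¹ = (u * u) * d * (u * u)⁻¹ := by group
    rw [h, hu2]
    simpa using hd.1
  obtain ⟨s, hs, c, hc, hsc⟩ := hprod u'
  have hs1 : s ≠ 1 := by
    intro h
    have hu'C : u' ∈ C := by rw [hsc, h, one_mul]; exact hc
    have h2 : orderOf u' ∣ 2 ^ 1 := orderOf_dvd_of_pow_eq_one (by rw [pow_one, sq, hu'2])
    have h3 : u' = 1 :=
      orderOf_eq_one_iff.1 (eq_one_of_coprime_dvd hodd (Subgroup.orderOf_dvd_natCard C hu'C) h2)
    apply huN
    have : u = t * u' * t⁻¹ := by rw [hu']; group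
    rw [this, h3]
    simp
  have hfix : ∀ d ∈ D, (t⁻¹ * d * t) * s = s * (t⁻¹ * d * t) := by
    intro d hd
    set d1 := t⁻¹ * d * t with hd1
    have hd1C : d1 ∈ C := htD d hd
    have hd1N : d1 ∈ N := mul_mem (mul_mem (inv_mem (hSN htS)) hd.1) (hSN htS)
    have h2 : t⁻¹ * (u * d * u⁻¹) * t ∈ C := htD _ (hDu d hd)
    have h3 : u' * d1 * u'⁻¹ ∈ C := by
      convert h2 using 1
      rw [hu', hd1]; group
    have hu'i : u'⁻¹ = u' := inv_eq_of_mul_eq_one_right hu'2
    have h4 : c⁻¹ * (s⁻¹ * d1 * s) * c ∈ C := by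
      have : u'⁻¹ * d1 * u' ∈ C := by rw [hu'i]; rwa [hu'i] at h3
      rw [hsc] at this
      convert this using 1
      group
    have h5 : s⁻¹ * d1 * s ∈ C := by
      have := mul_mem (mul_mem hc h4) (inv_mem hc)
      convert this using 1
      group
    have h6 : s⁻¹ * d1 * s * d1⁻¹ = 1 :=
      hSC (by simpa [mul_assoc] using mul_mem (inv_mem hs) (hN' hd1N s hs))
        (mul_mem h5 (inv_mem hd1C))
    rw [mul_inv_eq_one] at h6
    calc d1 * s = s * (s⁻¹ * d1 * s) := by group
      _ = s * d1 := by rw [h6]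
  have hsn : s ^ 2 ^ n = 1 := by
    rw [← hScard]
    exact congrArg Subtype.val (pow_card_eq_one' (x := (⟨s, hs⟩ : ↥S)))
  obtain ⟨j, -, hj⟩ := (Nat.dvd_prime_pow Nat.prime_two).1 (orderOf_dvd_of_pow_eq_one hsn)
  have hj0 : j ≠ 0 := by
    intro h
    rw [h, pow_zero, orderOf_eq_one_iff] at hj
    exact hs1 hj
  set z := s ^ 2 ^ (j - 1) with hz
  have hzV : z ∈ V := ⟨pow_mem hs _, by
    rw [hz, ← pow_mul, ← pow_succ, show j - 1 + 1 = j by omega, ← hj, pow_orderOf_eq_one]⟩
  have hz1 : z ≠ 1 := by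
    intro h
    have h1 := orderOf_dvd_of_pow_eq_one (hz ▸ h)
    rw [hj, Nat.pow_dvd_pow_iff_le_right (by norm_num)] at h1
    omega
  have hle : Nat.card D ≤ Nat.card ↥(Γ ⊓ centralizer {z}) := by
    refine Nat.card_le_card_of_injective
      (fun d => (⟨t⁻¹ * d * t, Subgroup.mem_inf.2 ⟨Subgroup.mem_inf.2
        ⟨N.mul_mem (N.mul_mem (N.inv_mem (hSN htS)) (Subgroup.mem_inf.1 d.2).1) (hSN htS),
        htD _ d.2⟩, mem_centralizer_singleton_iff.2
          ((show Commute (t⁻¹ * (d : G) * t) s from hfix _ d.2).pow_right _).eq⟩⟩ :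
        ↥(Γ ⊓ centralizer {z}))) ?_
    intro a b h
    exact Subtype.ext (mul_left_cancel (mul_right_cancel (congrArg Subtype.val h)))
  have := stabilizer_lt hFT Γ V hΓV hfaith htr hoddΓ hAΓ hV2 hzV hz1
  omega

/-- A finite group with abelian Sylow subgroups having a subgroup of odd order and `2`-power
index is solvable. -/
theorem isSolvable_aux (hFT : OddOrderGlue.FeitThompson.{u}) :
    ∀ (m : ℕ) (G : Type u) [Group G] [Finite G], Nat.card G ≤ m →
    (∀ (p : ℕ) [Fact p.Prime] (P : Sylow p G), IsMulCommutative (P : Subgroup G)) →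
    ∀ (C : Subgroup G), Odd (Nat.card C) → (∃ n, C.index = 2 ^ n) → Group.IsSolvable G := by
  intro m
  induction m with
  | zero =>
    intro G _ _ h
    exact absurd Nat.card_pos (by omega : ¬ 0 < Nat.card G)
  | succ m ih =>
    intro G _ _ hm hA C hodd hidx
    obtain ⟨n, hidx⟩ := hidx
    by_contra hns
    have hsub : ∀ X : Subgroup G, X ≠ ⊤ → (∃ k, (C.subgroupOf X).index = 2 ^ k) →
        Group.IsSolvable ↥X := by
      intro X hX hk
      have hlt : Nat.card X < Nat.card G :=
        lt_of_le_of_ne (Nat.le_of_dvd Nat.card_pos X.card_subgroup_dvd_card)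
          fun h => hX (eq_top_of_card_eq X h)
      refine ih ↥X (by omega) (sylow_abelian_subgroup hA X) _ (hodd.of_dvd_nat ?_) hk
      rw [← inf_subgroupOf_right,
        Nat.card_congr (Subgroup.subgroupOfEquivOfLe (inf_le_right : C ⊓ X ≤ X)).toEquiv]
      exact card_dvd_of_le inf_le_left
    refine false_of_simple hFT hA C hodd n hidx hns (fun N hN => ?_) hsub
    by_contra hcon
    simp only [not_or] at hcon
    obtain ⟨hN1, hN2⟩ := hcon
    haveI := hN
    apply hns
    haveI : Group.IsSolvable ↥N := by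
      refine hsub N hN2 ?_
      obtain ⟨k, -, hk⟩ := (Nat.dvd_prime_pow Nat.prime_two).1
        (hidx ▸ relIndex_dvd_of_normal C N)
      exact ⟨k, hk⟩
    haveI : Group.IsSolvable (G ⧸ N) := by
      have hlt : Nat.card (G ⧸ N) < Nat.card G := by
        rw [← index_eq_card, ← N.card_mul_index]
        exact lt_mul_left (Nat.pos_of_ne_zero index_ne_zero_of_finite)
          ((Subgroup.one_lt_card_iff_ne_bot N).2 hN1)
      refine ih (G ⧸ N) (by omega) (sylow_abelian_quotient hA N)
        (C.map (QuotientGroup.mk' N)) (hodd.of_dvd_nat (card_map_dvd _ _)) ?_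
      obtain ⟨k, -, hk⟩ := (Nat.dvd_prime_pow Nat.prime_two).1
        (hidx ▸ index_map_dvd C (QuotientGroup.mk'_surjective N))
      exact ⟨k, hk⟩
    exact Group.isSolvable_of_ker_le_range N.subtype (QuotientGroup.mk' N) (by simp)

theorem isSolvable_of_odd_two_power_index (hFT : OddOrderGlue.FeitThompson.{u}) {G : Type u}
    [Group G] [Finite G]
    (hA : ∀ (p : ℕ) [Fact p.Prime] (P : Sylow p G), IsMulCommutative (P : Subgroup G))
    (C : Subgroup G) (hodd : Odd (Nat.card C)) {n : ℕ} (hidx : C.index = 2 ^ n) :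
    Group.IsSolvable G :=
  isSolvable_aux hFT (Nat.card G) G le_rfl hA C hodd ⟨n, hidx⟩

end Cfsg.Agent.H40.FactorTwo
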