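import Cfsg.Agent.H40.FactorTwo.Main
import Cfsg.Agent.Lib.Transfer.Abelian
import Cfsg.Agent.FGS76.Basic

/-!
# An element of class size the maximal `2`-part in a group with abelian Sylow subgroups
-/

set_option autoImplicit false
set_option linter.style.haveILetI false

open Subgroup
open scoped Pointwise

universe u

namespace Cfsg.Agent.H40.FactorTwo

/-- Stable term of the derived series. -/
theorem exists_perfect_core (G : Type u) [Group G] [Finite G] :
    ∃ n, ∀ k, derivedSeries G n ≤ derivedSeries G k := by
  classical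
  have hex : ∃ c, ∃ n, Nat.card (derivedSeries G n) = c := ⟨_, 0, rfl⟩
  obtain ⟨n, hn⟩ := Nat.find_spec hex
  refine ⟨n, fun k => ?_⟩
  rcases le_total n k with h | h
  · exact (Subgroup.eq_of_le_of_card_ge (derivedSeries_antitone G h)
      (hn.le.trans (Nat.find_le ⟨k, rfl⟩))).ge
  · exact derivedSeries_antitone G h

theorem factorization_index_le {G : Type u} [Group G] [Finite G] {H : Subgroup G} {a : ℕ}
    (h : ¬ 2 ^ (a + 1) ∣ H.index) : H.index.factorization 2 ≤ a := by
  by_contra hlt
  exact h ((Nat.prime_two.pow_dvd_iff_le_factorization index_ne_zero_of_finite).2 (by omega))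

theorem solvable_of_max_two_part (hFT : OddOrderGlue.FeitThompson.{u}) {G : Type u} [Group G]
    [Finite G]
    (hA : ∀ (p : ℕ) [Fact p.Prime] (P : Sylow p G), IsMulCommutative (P : Subgroup G))
    (a : ℕ) (hmax : ∀ y : G, ¬ 2 ^ (a + 1) ∣ (centralizer ({y} : Set G)).index) (x : G)
    (hx : (centralizer ({x} : Set G)).index = 2 ^ a) : Group.IsSolvable G := by
  classical
  haveI : Fact (Nat.Prime 2) := ⟨Nat.prime_two⟩
  set H := centralizer ({x} : Set G) with hH
  -- a Sylow `2`-subgroup of `H` inside one of `G`
  obtain ⟨R⟩ : Nonempty (Sylow 2 ↥H) := inferInstance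
  obtain ⟨P, hP⟩ := R.exists_comap_subtype_eq
  haveI := hA 2 P
  set K := H.normalCore with hK
  haveI : K.Normal := H.normalCore_normal
  have hvP : Nat.card P = 2 ^ (Nat.card G).factorization 2 := P.card_eq_multiplicity
  have hvR : Nat.card R = 2 ^ (Nat.card H).factorization 2 := R.card_eq_multiplicity
  have hG : Nat.card H * 2 ^ a = Nat.card G := hx ▸ H.card_mul_index
  have hvG : (Nat.card G).factorization 2 = (Nat.card H).factorization 2 + a := by
    rw [← hG, Nat.factorization_mul Nat.card_pos.ne' (by positivity),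
      Nat.prime_two.factorization_pow]
    simp
  -- `G = H P`
  have hprod : ∀ g : G, ∃ h ∈ H, ∃ s ∈ (P : Subgroup G), g = h * s := by
    intro g
    have hrel : (P : Subgroup G).relIndex H * Nat.card R = Nat.card H := by
      have h1 := (R : Subgroup ↥H).index_mul_card
      rw [← hP] at h1 ⊢
      exact h1
    have hrel2 : H.relIndex (P : Subgroup G) = 2 ^ a := by
      have h1 : Nat.card ↥(H.subgroupOf (P : Subgroup G)) * H.relIndex (P : Subgroup G) =
          Nat.card P := Subgroup.card_mul_index _
      have h2 : Nat.card ↥(H.subgroupOf (P : Subgroup G)) = Nat.card R := by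
        rw [show (R : Subgroup ↥H) = (P : Subgroup G).comap H.subtype from hP.symm]
        exact Nat.card_congr
          { toFun := fun y => ⟨⟨(y : ↥(P : Subgroup G)), y.2⟩, y.1.2⟩
            invFun := fun y => ⟨⟨(y : ↥H), y.2⟩, y.1.2⟩
            left_inv := fun _ => rfl
            right_inv := fun _ => rfl }
      rw [h2, hvR, hvP, hvG, pow_add] at h1
      exact Nat.eq_of_mul_eq_mul_left (by positivity) h1
    have hbij : Function.Bijective (fun q : ↥(P : Subgroup G) ⧸ H.subgroupOf (P : Subgroup G) =>
        Quotient.liftOn' q (fun s => ((s : G) : G ⧸ H)) (fun s t h => QuotientGroup.eq.2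
          (by simpa [mem_subgroupOf] using QuotientGroup.leftRel_apply.1 h))) := by
      rw [Nat.bijective_iff_injective_and_card]
      refine ⟨?_, ?_⟩
      · intro q r
        refine Quotient.inductionOn₂' q r fun s t h => Quotient.sound' ?_
        refine QuotientGroup.leftRel_apply.2 (mem_subgroupOf.2 ?_)
        simpa using QuotientGroup.eq.1 (show ((s : G) : G ⧸ H) = ((t : G) : G ⧸ H) from h)
      · rw [← index_eq_card, ← index_eq_card, hx]
        exact hrel2
    obtain ⟨q, hq⟩ := hbij.2 ((g⁻¹ : G) : G ⧸ H)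
    induction q using Quotient.inductionOn' with
    | h s =>
      have h1 : (s : G)⁻¹ * g⁻¹ ∈ H := QuotientGroup.eq.1 hq
      refine ⟨((s : G)⁻¹ * g⁻¹)⁻¹, inv_mem h1, (s : G)⁻¹, inv_mem s.2, ?_⟩
      group
  have hRK : ∀ r ∈ H, r ∈ (P : Subgroup G) → r ∈ K := by
    intro r hrH hrP g
    obtain ⟨h, hh, s, hs, rfl⟩ := hprod g
    have h1 : h * s * r * (h * s)⁻¹ = h * r * h⁻¹ := by
      calc h * s * r * (h * s)⁻¹ = h * (s * r) * s⁻¹ * h⁻¹ := by group
        _ = h * (r * s) * s⁻¹ * h⁻¹ := by rw [setLike_mul_comm hs hrP]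
        _ = h * r * h⁻¹ := by group
    rw [h1]
    exact H.mul_mem (H.mul_mem hh hrH) (H.inv_mem hh)
  -- `G/K` is solvable
  have hKH : K ≤ H := H.normalCore_le
  have hodd : Odd (Nat.card ↥(H.map (QuotientGroup.mk' K))) := by
    have h1 : Nat.card ↥(H.map (QuotientGroup.mk' K)) = K.relIndex H := by
      rw [← relIndex_ker, QuotientGroup.ker_mk']
    rw [h1, ← Nat.not_even_iff_odd, even_iff_two_dvd]
    intro h2
    apply R.not_dvd_index
    refine h2.trans ?_
    refine index_dvd_of_le ?_
    intro r hr
    rw [← hP] at hr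
    exact hRK r r.2 hr
  obtain ⟨m, -, hm⟩ := (Nat.dvd_prime_pow Nat.prime_two).1
    (hx ▸ index_map_dvd H (QuotientGroup.mk'_surjective K))
  haveI hsolv : Group.IsSolvable (G ⧸ K) :=
    isSolvable_of_odd_two_power_index hFT (sylow_abelian_quotient hA K) _ hodd hm
  -- the perfect core
  obtain ⟨n, hn⟩ := exists_perfect_core G
  set L := derivedSeries G n with hL
  haveI : L.Normal := derivedSeries_normal G n
  have hLK : L ≤ K := by
    obtain ⟨k, hk⟩ := hsolv.solvable
    refine (hn k).trans ?_
    have h := map_derivedSeries_eq (QuotientGroup.mk'_surjective K) k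
    rw [hk, Subgroup.map_eq_bot_iff, QuotientGroup.ker_mk'] at h
    exact h
  have hperf : commutator ↥L = ⊤ := by
    apply Subgroup.map_injective L.subtype_injective
    rw [map_subtype_commutator, ← MonoidHom.range_eq_map, range_subtype]
    refine le_antisymm (commutator_le_self _) ?_
    exact (hn (n + 1)).trans (derivedSeries_succ G n).le
  have hLA := sylow_abelian_subgroup hA L
  have hZ : center ↥L = ⊥ := by
    by_contra hne
    obtain ⟨p, hp, hdvd⟩ := Nat.exists_prime_and_dvd
      (n := Nat.card (center ↥L)) (by rwa [Ne, card_eq_one])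
    haveI := Fact.mk hp
    obtain ⟨z, hz⟩ := exists_prime_orderOf_dvd_card' p hdvd
    have hzp : IsPGroup p (zpowers (z : ↥L)) := IsPGroup.of_card (n := 1)
      (by rw [Nat.card_zpowers, orderOf_coe, hz, pow_one])
    obtain ⟨Q, hQ⟩ := hzp.exists_le_sylow
    have h := Transfer.inf_commutator_inf_center_eq_bot (hLA p Q) Q.card_coprime_index
    rw [hperf, inf_top_eq] at h
    have : (z : ↥L) ∈ (⊥ : Subgroup ↥L) := h ▸ ⟨hQ (mem_zpowers _), z.2⟩
    rw [mem_bot, OneMemClass.coe_eq_one] at this
    rw [this, orderOf_one] at hz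
    exact hp.ne_one hz.symm
  have hLH : L ≤ H := hLK.trans hKH
  -- decomposition in `L` times its centraliser
  have huniq : ∀ u ∈ L, ∀ g, g * (x * u) = x * u * g → g ∈ H ∧ g * u = u * g := by
    intro u hu g hg
    have hxc : ∀ l ∈ L, l * x = x * l := fun l hl =>
      mem_centralizer_singleton_iff.1 (hLH hl)
    set x' := g * x * g⁻¹ with hx'
    have hx'c : ∀ l ∈ L, l * x' = x' * l := by
      intro l hl
      have h1 := hxc (g⁻¹ * l * g) (by
        simpa using ‹L.Normal›.conj_mem l hl g⁻¹)
      rw [hx']
      calc l * (g * x * g⁻¹) = g * ((g⁻¹ * l * g) * x) * g⁻¹ := by group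
        _ = g * (x * (g⁻¹ * l * g)) * g⁻¹ := by rw [h1]
        _ = _ := by group
    have hu' : g * u * g⁻¹ ∈ L := ‹L.Normal›.conj_mem u hu g
    have heq : x' * (g * u * g⁻¹) = x * u := by
      calc x' * (g * u * g⁻¹) = g * (x * u) * g⁻¹ := by rw [hx']; group
        _ = x * u := by rw [hg]; group
    set d := x⁻¹ * x' with hd
    have hdL : d ∈ L := by
      have : d = u * (g * u * g⁻¹)⁻¹ := by
        calc d = x⁻¹ * (x' * (g * u * g⁻¹)) * (g * u * g⁻¹)⁻¹ := by rw [hd]; group
          _ = _ := by rw [heq]; group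
      exact this ▸ mul_mem hu (inv_mem hu')
    have hdc : (⟨d, hdL⟩ : ↥L) ∈ center ↥L := by
      rw [mem_center_iff]
      intro l
      exact Subtype.ext ((((show Commute (l : G) x from hxc l l.2).inv_right).mul_right
        (show Commute (l : G) x' from hx'c l l.2)).eq)
    rw [hZ, mem_bot] at hdc
    have hd1 : d = 1 := congrArg Subtype.val hdc
    have hxx : x' = x := (inv_mul_eq_one.1 (hd ▸ hd1)).symm
    rw [hxx] at heq
    have hu1 := mul_left_cancel heq
    exact ⟨mem_centralizer_singleton_iff.2 (mul_inv_eq_iff_eq_mul.1 (hx' ▸ hxx)),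
      mul_inv_eq_iff_eq_mul.1 hu1⟩
  -- every element of `L` centralises a Sylow `2`-subgroup of `L`
  obtain ⟨R0⟩ : Nonempty (Sylow 2 ↥L) := inferInstance
  have hcover : ∀ l : ↥L, ∃ y : ↥L, y * l * y⁻¹ ∈ centralizer ((R0 : Subgroup ↥L) : Set ↥L) := by
    intro l
    set W : Subgroup ↥L := centralizer ({l} : Set ↥L) with hW
    -- `W` has odd index
    have hWodd : ¬ 2 ∣ W.index := by
      set U : Subgroup G := centralizer {x * (l : G)} with hU
      have hUH : U ≤ H := fun g hg =>
        (huniq l l.2 g (mem_centralizer_singleton_iff.1 hg)).1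
      have hUodd : ¬ 2 ∣ U.relIndex H := by
        intro h
        have h2 := relIndex_mul_index hUH
        have h3 := factorization_index_le (hmax (x * (l : G)))
        rw [← hU, ← h2, hx, Nat.factorization_mul
          (fun h0 => index_ne_zero_of_finite (H := U) (by rw [← h2, h0, zero_mul]))
          (by positivity), Nat.prime_two.factorization_pow] at h3
        simp only [Finsupp.add_apply, Finsupp.single_eq_same] at h3
        have h4 := (Nat.prime_two.dvd_iff_one_le_factorization
          (fun h0 => index_ne_zero_of_finite (H := U) (by rw [← h2, h0, zero_mul]))).1 h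
        omega
      have hWU : W.index = (U.subgroupOf H).relIndex (L.subgroupOf H) := by
        rw [relIndex_subgroupOf hLH]
        have : U.subgroupOf L = W := by
          ext y
          rw [mem_subgroupOf, hU, hW, mem_centralizer_singleton_iff,
            mem_centralizer_singleton_iff]
          constructor
          · intro h
            exact Subtype.ext (huniq l l.2 y h).2
          · intro h
            have h1 : (y : G) * x = x * y := mem_centralizer_singleton_iff.1 (hLH y.2)
            have h2 : (y : G) * l = l * y := congrArg Subtype.val h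
            exact ((show Commute (y : G) x from h1).mul_right h2).eq
        rw [← this]
        rfl
      rw [hWU]
      exact fun h => hUodd (h.trans (relIndex_dvd_of_normal _ _))
    -- hence contains a Sylow `2`-subgroup of `L`
    obtain ⟨T⟩ : Nonempty (Sylow 2 ↥W) := inferInstance
    obtain ⟨Q, hQ⟩ := T.exists_comap_subtype_eq
    have hQW : (Q : Subgroup ↥L) ≤ W := by
      have hT : ((T : Subgroup ↥W).map W.subtype) ≤ (Q : Subgroup ↥L) := by
        rw [← hQ]; exact map_comap_le _ _
      have hcard : Nat.card ((T : Subgroup ↥W).map W.subtype) = Nat.card Q := by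
        rw [card_map_of_injective W.subtype_injective, T.card_eq_multiplicity,
          Q.card_eq_multiplicity, ← W.card_mul_index,
          Nat.factorization_mul Nat.card_pos.ne' index_ne_zero_of_finite]
        simp [Nat.factorization_eq_zero_of_not_dvd hWodd]
      rw [← eq_of_le_of_card_ge hT hcard.ge]
      exact map_subtype_le _
    obtain ⟨y, hy⟩ := MulAction.exists_smul_eq ↥L Q R0
    refine ⟨y, fun r hr => ?_⟩
    rw [← hy] at hr
    have hr' : r ∈ MulAut.conj y • (Q : Subgroup ↥L) := hr
    obtain ⟨q, hq, rfl⟩ := hr'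
    have h := mem_centralizer_singleton_iff.1 (hQW hq)
    show y * q * y⁻¹ * (y * l * y⁻¹) = y * l * y⁻¹ * (y * q * y⁻¹)
    calc y * q * y⁻¹ * (y * l * y⁻¹) = y * (q * l) * y⁻¹ := by group
      _ = y * (l * q) * y⁻¹ := by rw [h]
      _ = _ := by group
  have htop := FGS76.eq_top_of_forall_exists_conj _ hcover
  rw [centralizer_eq_top_iff_subset] at htop
  have hR0 : (R0 : Subgroup ↥L) = ⊥ := by
    rw [← le_bot_iff, ← hZ]
    exact htop
  have hLodd : Odd (Nat.card L) := by
    rw [← Nat.not_even_iff_odd, even_iff_two_dvd]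
    intro h
    exact R0.ne_bot_of_dvd_card h hR0
  haveI : Group.IsSolvable ↥L := hFT ↥L hLodd
  obtain ⟨k, hk⟩ := (Group.isSolvable_def (G := ↥L)).1 inferInstance
  have hLbot : L = ⊥ := by
    have hder : ∀ j, derivedSeries ↥L j = ⊤ := by
      intro j
      induction j with
      | zero => rfl
      | succ j ihj =>
        rw [derivedSeries_succ, ihj]
        exact hperf
    rw [hder] at hk
    have h1 := congrArg (Subgroup.map L.subtype) hk
    rwa [← MonoidHom.range_eq_map, range_subtype, Subgroup.map_bot] at h1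
  exact ⟨n, hLbot⟩

end Cfsg.Agent.H40.FactorTwo
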